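import Mathlib
import Cfsg.Agent.Lib.PGroup.Frattini
import Cfsg.Agent.Lib.Core.Nilpotent

/-!
No proper stem extension of a cyclic or quaternion 2-group.
-/

set_option autoImplicit false

namespace Cfsg.Agent.Lib.CaminaPair

open Subgroup
open scoped commutatorElement

variable {P : Type*} [Group P]

theorem not_stem_cyclic [Finite P] {p : ℕ} [Fact p.Prime] (hP : IsPGroup p P) {Q : Type*} [Group Q]
    [IsCyclic Q] (ψ : P →* Q) (hψ : Function.Surjective ψ) (hk : ψ.ker ≤ commutator P)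
    (hne : ψ.ker ≠ ⊥) : False := by
  obtain ⟨c, hc⟩ := IsCyclic.exists_generator (α := Q)
  obtain ⟨a, rfl⟩ := hψ c
  have htop : zpowers a = ⊤ := by
    refine frattini_nongenerating (eq_top_iff.mpr fun x _ => ?_)
    obtain ⟨i, hi⟩ := mem_zpowers_iff.mp (hc (ψ x))
    have h1 : (a ^ i)⁻¹ * x ∈ ψ.ker := by
      rw [MonoidHom.mem_ker, map_mul, map_inv, map_zpow, hi, inv_mul_cancel]
    rw [show x = a ^ i * ((a ^ i)⁻¹ * x) by group]
    exact mul_mem_sup ⟨i, rfl⟩ (PFrattini.commutator_le_frattini hP (hk h1))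
  refine hne (eq_bot_iff.mpr (hk.trans ?_))
  rw [_root_.commutator_def, commutator_le]
  intro x _ y _
  obtain ⟨i, rfl⟩ := mem_zpowers_iff.mp (htop ▸ mem_top x : x ∈ zpowers a)
  obtain ⟨j, rfl⟩ := mem_zpowers_iff.mp (htop ▸ mem_top y : y ∈ zpowers a)
  rw [mem_bot, commutatorElement_eq_one_iff_mul_comm, ← zpow_add, ← zpow_add, add_comm]

/-- A central kernel of exponent two inside the derived group of a cover of a generalised quaternion
group of order at least eight is trivial. -/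
theorem not_stem_quaternion_central {m : ℕ} [NeZero m] (hm : Even m)
    (ψ : P →* QuaternionGroup m) (hψ : Function.Surjective ψ) (hk : ψ.ker ≤ commutator P)
    (hc : ∀ z ∈ ψ.ker, ∀ x : P, Commute z x) (h2 : ∀ z ∈ ψ.ker, z * z = 1) : ψ.ker = ⊥ := by
  obtain ⟨A, hA⟩ := hψ (QuaternionGroup.a 1)
  obtain ⟨B, hB⟩ := hψ (QuaternionGroup.xa 0)
  obtain ⟨f, hf⟩ : ∃ f, f = B * A * B⁻¹ * A := ⟨_, rfl⟩
  have hfk : f ∈ ψ.ker := by
    rw [MonoidHom.mem_ker, hf, map_mul, map_mul, map_mul, map_inv, hA, hB, mul_assoc, mul_assoc,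
      inv_mul_eq_iff_eq_mul.mpr (show QuaternionGroup.a (1 : ZMod (2 * m)) =
        QuaternionGroup.xa 0 * QuaternionGroup.xa (1 + m) by
          rw [QuaternionGroup.xa_mul_xa]; congr 1
          have h0 : ((m : ZMod (2 * m)) + m) = 0 := by
            rw [← two_mul]; exact_mod_cast ZMod.natCast_self (2 * m)
          linear_combination -h0)]
    rw [QuaternionGroup.a_mul_xa, QuaternionGroup.xa_mul_xa, QuaternionGroup.one_def]
    congr 1
    have h0 : ((m : ZMod (2 * m)) + m) = 0 := by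
      rw [← two_mul]; exact_mod_cast ZMod.natCast_self (2 * m)
    linear_combination h0
  have hconj : B * A * B⁻¹ = f * A⁻¹ := by rw [hf]; group
  obtain ⟨e, he⟩ : ∃ e, e = (A ^ m)⁻¹ * (B * B) := ⟨_, rfl⟩
  have hek : e ∈ ψ.ker := by
    rw [MonoidHom.mem_ker, he, map_mul, map_mul, map_inv, map_pow, hA, hB,
      QuaternionGroup.a_one_pow, QuaternionGroup.xa_mul_xa, add_zero, sub_zero, inv_mul_cancel]
  have hBB : B * B = A ^ m * e := by rw [he]; group
  have hcomm : B * A ^ m * B⁻¹ = A ^ m := by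
    have h1 : A ^ m = B * B * e⁻¹ := by rw [hBB, mul_inv_cancel_right]
    have h3 := (hc e⁻¹ (inv_mem hek) B).eq
    conv_lhs => rw [h1]
    conv_rhs => rw [h1]
    calc B * (B * B * e⁻¹) * B⁻¹ = B * B * (B * e⁻¹) * B⁻¹ := by group
      _ = B * B * (e⁻¹ * B) * B⁻¹ := by rw [h3]
      _ = B * B * e⁻¹ := by group
  have hA2m : A ^ (2 * m) = 1 := by
    have hfm : f ^ m = 1 := by
      obtain ⟨k, rfl⟩ := hm
      rw [← two_mul, pow_mul, sq, h2 f hfk, one_pow]
    have h1 : (B * A * B⁻¹) ^ m = (A ^ m)⁻¹ := by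
      rw [hconj, (hc f hfk A⁻¹).mul_pow, hfm, one_mul, inv_pow]
    rw [conj_pow, hcomm] at h1
    rw [two_mul, pow_add]
    nth_rewrite 1 [h1]
    rw [inv_mul_cancel]
  obtain ⟨T, hT⟩ : ∃ T, T = zpowers (A⁻¹ * A⁻¹ * f) := ⟨_, rfl⟩
  have hTk : ∀ z ∈ ψ.ker, z ∈ T → z = 1 := by
    intro z hz hzT
    rw [hT] at hzT
    obtain ⟨i, rfl⟩ := mem_zpowers_iff.mp hzT
    rw [MonoidHom.mem_ker, map_zpow, map_mul, MonoidHom.mem_ker.mp hfk, mul_one, map_mul, map_inv,
      hA] at hz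
    have hord : orderOf ((QuaternionGroup.a 1 : QuaternionGroup m)⁻¹ * (QuaternionGroup.a 1)⁻¹) = m := by
      rw [← mul_inv_rev, orderOf_inv, ← sq, orderOf_pow, QuaternionGroup.orderOf_a_one,
        Nat.gcd_eq_right (dvd_mul_right 2 m), Nat.mul_div_cancel_left _ (by norm_num)]
    obtain ⟨j, rfl⟩ : (m : ℤ) ∣ i := by
      have h := orderOf_dvd_iff_zpow_eq_one.mpr hz
      rwa [hord] at h
    have hfm : f ^ m = 1 := by
      obtain ⟨k, rfl⟩ := hm
      rw [← two_mul, pow_mul, sq, h2 f hfk, one_pow]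
    have hcf : Commute (A⁻¹ * A⁻¹) f := (hc f hfk _).symm
    rw [zpow_mul, zpow_natCast, hcf.mul_pow, hfm, mul_one,
      (Commute.refl A⁻¹).mul_pow, ← pow_add, ← two_mul, inv_pow, hA2m, inv_one, one_zpow]
  have hgen : ∀ x : P, ∃ (i : ℤ) (z : P), z ∈ ψ.ker ∧ (x = A ^ i * z ∨ x = B * A ^ i * z) := by
    intro x
    rcases hx : ψ x with j | j
    · refine ⟨(j.val : ℤ), (A ^ (j.val : ℤ))⁻¹ * x, ?_, Or.inl (by group)⟩
      rw [MonoidHom.mem_ker, map_mul, map_inv, map_zpow, hA, hx, zpow_natCast,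
        QuaternionGroup.a_one_pow, ZMod.natCast_zmod_val, inv_mul_cancel]
    · refine ⟨(j.val : ℤ), (B * A ^ (j.val : ℤ))⁻¹ * x, ?_, Or.inr (by group)⟩
      rw [MonoidHom.mem_ker, map_mul, map_inv, map_mul, map_zpow, hA, hB, hx, zpow_natCast,
        QuaternionGroup.a_one_pow, ZMod.natCast_zmod_val, QuaternionGroup.xa_mul_a, zero_add,
        inv_mul_cancel]
  have hTA : Commute A (A⁻¹ * A⁻¹ * f) :=
    ((((Commute.refl A).inv_right).mul_right ((Commute.refl A).inv_right)).mul_right (hc f hfk A).symm)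
  have hTB : B * (A⁻¹ * A⁻¹ * f) * B⁻¹ = (A⁻¹ * A⁻¹ * f)⁻¹ := by
    have hfi : f⁻¹ = f := inv_eq_of_mul_eq_one_right (h2 f hfk)
    calc B * (A⁻¹ * A⁻¹ * f) * B⁻¹ = (B * A * B⁻¹)⁻¹ * (B * A * B⁻¹)⁻¹ * (B * f * B⁻¹) := by group
      _ = A * f⁻¹ * (A * f⁻¹) * f := by
        rw [hconj, ← (hc f hfk B).eq, mul_inv_cancel_right]; group
      _ = A * (f * A) * f * f := by rw [hfi]; group
      _ = A * (A * f) * f * f := by rw [(hc f hfk A).eq]
      _ = (A⁻¹ * A⁻¹ * f)⁻¹ := by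
        rw [mul_inv_rev, hfi, mul_inv_rev, inv_inv]
        calc A * (A * f) * f * f = A * A * (f * f) * f := by group
          _ = A * A * f := by rw [h2 f hfk, mul_one]
          _ = f * (A * A) := ((hc f hfk (A * A)).eq).symm
  have hTconj : ∀ x : P, ∀ y ∈ T, x * y * x⁻¹ ∈ T := by
    intro x y hy
    rw [hT] at hy ⊢
    obtain ⟨k, rfl⟩ := mem_zpowers_iff.mp hy
    obtain ⟨i, z, hz, rfl | rfl⟩ := hgen x
    · rw [← conj_zpow, mul_inv_eq_iff_eq_mul.mpr
        (((hTA.zpow_left i).mul_left (hc z hz _)).eq)]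
      exact zpow_mem (mem_zpowers _) k
    · rw [← conj_zpow, mul_assoc B, show B * (A ^ i * z) * (A⁻¹ * A⁻¹ * f) * (B * (A ^ i * z))⁻¹ =
        B * ((A ^ i * z) * (A⁻¹ * A⁻¹ * f) * (A ^ i * z)⁻¹) * B⁻¹ by group,
        mul_inv_eq_iff_eq_mul.mpr (((hTA.zpow_left i).mul_left (hc z hz _)).eq), hTB]
      exact zpow_mem (inv_mem (mem_zpowers _)) k
  haveI : T.Normal := ⟨fun y hy x => hTconj x y hy⟩
  have hAB : Commute (A : P ⧸ T) (B : P ⧸ T) := by
    refine (QuotientGroup.eq.mpr ?_ : ((A * B : P) : P ⧸ T) = ((B * A : P) : P ⧸ T))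
    have h1 : (A * B)⁻¹ * (B * A) = B⁻¹ * (A⁻¹ * A⁻¹ * f) * B := by
      calc (A * B)⁻¹ * (B * A) = B⁻¹ * (A⁻¹ * (B * A * B⁻¹)) * B := by group
        _ = B⁻¹ * (A⁻¹ * (A⁻¹ * f)) * B := by rw [hconj, (hc f hfk A⁻¹).eq]
        _ = _ := by group
    rw [h1]
    have := hTconj B⁻¹ _ (hT ▸ mem_zpowers _)
    rwa [inv_inv] at this
  have hcomT : commutator P ≤ T := by
    rw [_root_.commutator_def, commutator_le]
    intro x _ y _
    rw [← QuotientGroup.eq_one_iff, ← QuotientGroup.mk'_apply, map_commutatorElement,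
      commutatorElement_eq_one_iff_mul_comm]
    have hz' : ∀ z ∈ ψ.ker, ∀ w : P, Commute (z : P ⧸ T) (w : P ⧸ T) := fun z hz w =>
      (hc z hz w).map (QuotientGroup.mk' T)
    obtain ⟨S, hS⟩ : ∃ S, S = closure ({(A : P ⧸ T), (B : P ⧸ T)} ∪ QuotientGroup.mk' T '' ψ.ker) :=
      ⟨_, rfl⟩
    haveI : IsMulCommutative S := hS ▸ isMulCommutative_closure (by
      rintro x ((rfl | rfl) | ⟨z, hz, rfl⟩) y ((rfl | rfl) | ⟨w, hw, rfl⟩) <;>
        first
          | rfl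
          | exact hAB.eq
          | exact hAB.symm.eq
          | exact (hz' _ hz _).eq
          | exact (hz' _ hw _).symm.eq)
    have hall : ∀ x : P, (x : P ⧸ T) ∈ S := by
      intro x
      have hAS : (A : P ⧸ T) ∈ S := hS ▸ subset_closure (Or.inl (Or.inl rfl))
      have hBS : (B : P ⧸ T) ∈ S := hS ▸ subset_closure (Or.inl (Or.inr rfl))
      obtain ⟨i, z, hz, rfl | rfl⟩ := hgen x <;>
        simp only [QuotientGroup.mk_mul, QuotientGroup.mk_zpow] <;>
        have hzS : (z : P ⧸ T) ∈ S := hS ▸ subset_closure (Or.inr ⟨z, hz, rfl⟩)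
      · exact mul_mem (zpow_mem hAS i) hzS
      · exact mul_mem (mul_mem hBS (zpow_mem hAS i)) hzS
    exact congrArg Subtype.val (mul_comm' (⟨_, hall x⟩ : S) ⟨_, hall y⟩)
  exact eq_bot_iff.mpr fun z hz => mem_bot.mpr (hTk z hz (hcomT (hk hz)))

/-- No proper stem extension of a quaternion group. -/
theorem not_stem_quaternion [Finite P] (hP : IsPGroup 2 P) {n : ℕ}
    (ψ : P →* QuaternionGroup (2 ^ n)) (hψ : Function.Surjective ψ) (hk : ψ.ker ≤ commutator P)
    (hne : ψ.ker ≠ ⊥) : False := by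
  haveI : Fact (Nat.Prime 2) := ⟨Nat.prime_two⟩
  haveI : NeZero (2 ^ n) := ⟨pow_ne_zero n two_ne_zero⟩
  rcases Nat.eq_zero_or_pos n with rfl | hn
  · haveI : IsCyclic (QuaternionGroup (2 ^ 0)) := by
      rw [pow_zero]; exact QuaternionGroup.quaternionGroup_one_isCyclic
    exact not_stem_cyclic hP ψ hψ hk hne
  obtain ⟨K, ⟨hKn, hKlt⟩, hKmax⟩ := (Set.toFinite {K : Subgroup P | K.Normal ∧ K < ψ.ker}).exists_maximal
    ⟨⊥, inferInstance, bot_lt_iff_ne_bot.mpr hne⟩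
  haveI := hKn
  haveI := (hP.to_quotient K).isNilpotent
  obtain ⟨π, hπ⟩ : ∃ π, π = QuotientGroup.mk' K := ⟨_, rfl⟩
  let ψ' : P ⧸ K →* QuaternionGroup (2 ^ n) := QuotientGroup.lift K ψ fun x hx => hKlt.le hx
  have hψ' : Function.Surjective ψ' := fun y => by
    obtain ⟨x, rfl⟩ := hψ y
    exact ⟨(x : P ⧸ K), rfl⟩
  have hπs : Function.Surjective π := hπ ▸ QuotientGroup.mk'_surjective K
  have hker : ψ'.ker = ψ.ker.map π := by
    rw [hπ]
    exact QuotientGroup.ker_lift K ψ _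
  have hne' : ψ'.ker ≠ ⊥ := fun h => hKlt.not_ge (by
    rw [hker, Subgroup.map_eq_bot_iff, hπ, QuotientGroup.ker_mk'] at h
    exact h)
  obtain ⟨⟨w, hw⟩, hw2⟩ : ∃ y : (ψ'.ker ⊓ Subgroup.center (P ⧸ K) : Subgroup (P ⧸ K)), orderOf y = 2 := by
    have hp : IsPGroup 2 (ψ'.ker ⊓ Subgroup.center (P ⧸ K) : Subgroup (P ⧸ K)) :=
      (hP.to_quotient K).to_subgroup _
    obtain ⟨k, hk'⟩ := IsPGroup.iff_card.mp hp
    refine exists_prime_orderOf_dvd_card' 2 (hk' ▸ dvd_pow_self 2 fun h0 => ?_)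
    rw [h0, pow_zero, Subgroup.card_eq_one] at hk'
    exact Nilp.inf_center_ne_bot_of_normal hne' hk'
  rw [Subgroup.orderOf_mk] at hw2
  have hwc : ∀ x, Commute w x := fun x => (mem_center_iff.mp (mem_inf.mp hw).2 x).symm
  haveI hwn : (zpowers w).Normal := ⟨fun y hy x => by
    obtain ⟨i, rfl⟩ := mem_zpowers_iff.mp hy
    rw [mul_inv_eq_iff_eq_mul.mpr (((hwc x).zpow_left i).symm.eq)]
    exact hy⟩
  have hkw : ψ'.ker = zpowers w := by
    refine le_antisymm ?_ (zpowers_le.mpr (mem_inf.mp hw).1)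
    by_contra hle
    have hKle : K ≤ (zpowers w).comap π := fun x hx => by
      rw [mem_comap, hπ, QuotientGroup.mk'_apply, (QuotientGroup.eq_one_iff x).mpr hx]
      exact one_mem _
    have hlt : (zpowers w).comap π < ψ.ker := by
      refine lt_of_le_of_ne (fun x hx => ?_) fun he => hle ?_
      · have h1 : π x ∈ ψ'.ker := zpowers_le.mpr (mem_inf.mp hw).1 hx
        rw [hπ] at h1
        exact h1
      · rw [hker, ← he, map_comap_eq_self_of_surjective hπs]
    have hle' := hKmax ⟨hwn.comap π, hlt⟩ hKle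
    obtain ⟨x, rfl⟩ := hπs w
    have h1 : π x = 1 := by
      rw [hπ, QuotientGroup.mk'_apply, QuotientGroup.eq_one_iff]
      exact hle' (mem_zpowers (π x))
    rw [h1, orderOf_one] at hw2
    exact absurd hw2 (by norm_num)
  refine hne' (not_stem_quaternion_central ?_ ψ' hψ' ?_ ?_ ?_)
  · exact (Nat.even_pow' hn.ne').mpr even_two
  · rw [hker]
    refine (map_mono hk).trans ?_
    rw [_root_.commutator_def, Subgroup.map_commutator]
    exact commutator_mono le_top le_top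
  · intro z hz x
    rw [hkw] at hz
    obtain ⟨i, rfl⟩ := mem_zpowers_iff.mp hz
    exact (hwc x).zpow_left i
  · intro z hz
    rw [hkw] at hz
    obtain ⟨i, rfl⟩ := mem_zpowers_iff.mp hz
    rw [← zpow_add, ← two_mul, zpow_mul, zpow_two, ← sq, ← hw2, pow_orderOf_eq_one, one_zpow]

end Cfsg.Agent.Lib.CaminaPair
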