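import Mathlib
import Cfsg.Prelude.Def_Transfer
import Cfsg.Agent.Lib.CaminaPair.NoQuaternion
import Cfsg.Agent.Lib.Transfer.Criteria
import Cfsg.Agent.Lib.Transfer.Hall
import Cfsg.Agent.Lib.PUnique.Basic
import Cfsg.Agent.Lib.Coprime.Generation
import Cfsg.Agent.Lib.Coprime.ThompsonFull

/-!
Normal subgroups `N` whose outside classes are unions of `N`-cosets.
-/

set_option autoImplicit false

namespace Cfsg.Agent.Lib.CaminaPair

open Subgroup
open scoped commutatorElement Pointwise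

universe u

variable {G : Type u} [Group G] [Finite G]

/-- Every element outside `N` is conjugate to all of its `N`-coset. -/
def IsPair (N : Subgroup G) : Prop := ∀ g : G, g ∉ N → ∀ n ∈ N, ∃ x : G, x * g * x⁻¹ = g * n

variable {N : Subgroup G}

omit [Finite G] in
theorem orderOf_mul (h : IsPair N) {x n : G} (hx : x ∉ N) (hn : n ∈ N) :
    orderOf (x * n) = orderOf x := by
  obtain ⟨g, hg⟩ := h x hx n hn
  rw [← hg]
  exact orderOf_injective (MulAut.conj g).toMonoidHom (MulAut.conj g).injective x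

/-- A `p`-element outside `N` centralises only `p`-elements of `N`. -/
theorem isPElement_of_commute (h : IsPair N) {p : ℕ} [hp : Fact p.Prime] {x n : G} (hx : x ∉ N)
    {k : ℕ} (hxk : x ^ p ^ k = 1) (hn : n ∈ N) (hc : Commute x n) : ∃ j, n ^ p ^ j = 1 := by
  obtain ⟨a, m, hm, ham⟩ := Nat.exists_eq_pow_mul_and_not_dvd (orderOf_pos n).ne' p hp.out.ne_one
  refine ⟨a, orderOf_eq_one_iff.mp ?_⟩
  have hno : orderOf (n ^ p ^ a) = m := by
    rw [orderOf_pow, ham, Nat.gcd_eq_right (dvd_mul_right _ _),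
      Nat.mul_div_cancel_left _ (pow_pos hp.out.pos a)]
  obtain ⟨b, -, hb⟩ := (Nat.dvd_prime_pow hp.out).mp (orderOf_dvd_of_pow_eq_one hxk)
  have hco : (orderOf x).Coprime (orderOf (n ^ p ^ a)) := by
    rw [hb, hno]
    exact (hp.out.coprime_iff_not_dvd.mpr hm).pow_left b
  have h1 := (hc.pow_right (p ^ a)).orderOf_mul_eq_mul_orderOf_of_coprime hco
  rw [orderOf_mul h hx (pow_mem hn _)] at h1
  exact (mul_eq_left₀ (orderOf_pos x).ne').mp h1.symm

/-- For a prime dividing the index and the order of `N`, `P ∩ N` lies in the derived group of `P`. -/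
theorem sylow_inf_le_commutator (h : IsPair N) [N.Normal] {p : ℕ} [hp : Fact p.Prime]
    (P : Sylow p G) (hidx : p ∣ N.index) :
    (P : Subgroup G) ⊓ N ≤ (commutator (P : Subgroup G)).map (P : Subgroup G).subtype := by
  have hPN : ¬ (P : Subgroup G) ≤ N := fun hle =>
    P.not_dvd_index (hidx.trans (index_dvd_of_le hle))
  obtain ⟨x, hxP, hxN, hxc⟩ : ∃ x ∈ (P : Subgroup G), x ∉ N ∧
      ∀ y ∈ (P : Subgroup G), y * x * y⁻¹ * x⁻¹ ∈ N := by
    have hp' := P.2.to_quotient (N.subgroupOf (P : Subgroup G))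
    haveI : Nontrivial ((P : Subgroup G) ⧸ N.subgroupOf (P : Subgroup G)) := by
      rw [← Finite.one_lt_card_iff_nontrivial]
      refine lt_of_le_of_ne Nat.card_pos fun he => hPN (subgroupOf_eq_top.mp ?_)
      exact index_eq_one.mp he.symm
    haveI := hp'.center_nontrivial
    obtain ⟨⟨z, hz⟩, hz1⟩ := exists_ne (1 : center ((P : Subgroup G) ⧸ N.subgroupOf (P : Subgroup G)))
    obtain ⟨⟨x, hx⟩, rfl⟩ := QuotientGroup.mk'_surjective _ z
    refine ⟨x, hx, fun hxN => hz1 (Subtype.ext ((QuotientGroup.eq_one_iff _).mpr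
      (mem_subgroupOf.mpr hxN))), fun y hy => ?_⟩
    have hc := mem_center_iff.mp hz (QuotientGroup.mk' _ ⟨y, hy⟩)
    rw [← commutatorElement_eq_one_iff_mul_comm, ← map_commutatorElement, QuotientGroup.mk'_apply,
      QuotientGroup.eq_one_iff, mem_subgroupOf] at hc
    exact hc
  obtain ⟨D, hD⟩ : ∃ D : Subgroup G, D = (centralizer {(x : G ⧸ N)}).comap (QuotientGroup.mk' N) :=
    ⟨_, rfl⟩
  have hDmem : ∀ g, g ∈ D ↔ x⁻¹ * (g * x * g⁻¹) ∈ N := by
    intro g
    rw [hD, mem_comap, mem_centralizer_singleton_iff, QuotientGroup.mk'_apply,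
      ← QuotientGroup.eq_one_iff, QuotientGroup.mk_mul, QuotientGroup.mk_mul, QuotientGroup.mk_mul,
      QuotientGroup.mk_inv, QuotientGroup.mk_inv, inv_mul_eq_one, eq_mul_inv_iff_mul_eq, eq_comm]
  have hcardD : Nat.card D = Nat.card N * Nat.card (centralizer ({x} : Set G)) := by
    choose f hf using fun n : N => h x hxN n n.2
    rw [← Nat.card_prod]
    symm
    refine Nat.card_eq_of_bijective (fun a : N × centralizer ({x} : Set G) =>
      (⟨f a.1 * a.2, ?_⟩ : D)) ⟨?_, ?_⟩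
    · have hc := mem_centralizer_singleton_iff.mp a.2.2
      rw [hDmem, show f a.1 * (a.2 : G) * x * (f a.1 * (a.2 : G))⁻¹ =
        f a.1 * ((a.2 : G) * x) * (a.2 : G)⁻¹ * (f a.1)⁻¹ by group, hc,
        show f a.1 * (x * (a.2 : G)) * (a.2 : G)⁻¹ * (f a.1)⁻¹ = f a.1 * x * (f a.1)⁻¹ by group, hf,
        inv_mul_cancel_left]
      exact a.1.2
    · rintro ⟨n, c⟩ ⟨n', c'⟩ he
      have he' : f n * (c : G) = f n' * (c' : G) := congrArg Subtype.val he
      have hconj : ∀ (m : N) (d : centralizer ({x} : Set G)),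
          f m * (d : G) * x * (f m * (d : G))⁻¹ = x * m := fun m d => by
        rw [mul_assoc (f m) (d : G) x, mem_centralizer_singleton_iff.mp d.2, ← hf m]
        group
      have hn : n = n' := Subtype.ext (mul_left_cancel (a := x) (by
        rw [← hconj n c, ← hconj n' c', he']))
      subst hn
      exact Prod.ext rfl (Subtype.ext (mul_left_cancel he'))
    · rintro ⟨g, hg⟩
      obtain ⟨n, hn⟩ : ∃ n : N, (n : G) = x⁻¹ * (g * x * g⁻¹) := ⟨⟨_, (hDmem g).mp hg⟩, rfl⟩
      refine ⟨(n, ⟨(f n)⁻¹ * g, ?_⟩), Subtype.ext (mul_inv_cancel_left _ _)⟩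
      rw [mem_centralizer_singleton_iff]
      have h1 : f n * x * (f n)⁻¹ = g * x * g⁻¹ := by rw [hf, hn, mul_inv_cancel_left]
      calc (f n)⁻¹ * g * x = (f n)⁻¹ * (g * x * g⁻¹) * g := by group
        _ = (f n)⁻¹ * (f n * x * (f n)⁻¹) * g := by rw [h1]
        _ = x * ((f n)⁻¹ * g) := by group
  obtain ⟨C, hC⟩ : ∃ C, C = (P : Subgroup G) ⊓ centralizer ({x} : Set G) := ⟨_, rfl⟩
  have hle : Nat.card C * Nat.card ((P : Subgroup G) ⊓ N : Subgroup G) ≤ Nat.card P := by
    obtain ⟨a, ha⟩ := IsPGroup.iff_card.mp (P.2.to_le (hC ▸ inf_le_left : C ≤ P))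
    obtain ⟨b, hb⟩ := IsPGroup.iff_card.mp (P.2.to_le (inf_le_left : (P : Subgroup G) ⊓ N ≤ P))
    have hdvd : Nat.card C * Nat.card ((P : Subgroup G) ⊓ N : Subgroup G) ∣ Nat.card G := by
      refine Dvd.dvd.trans ?_ D.card_subgroup_dvd_card
      rw [hcardD, mul_comm (Nat.card N)]
      exact mul_dvd_mul (Subgroup.card_dvd_of_le (hC ▸ inf_le_right))
        (Subgroup.card_dvd_of_le inf_le_right)
    rw [ha, hb, ← pow_add] at hdvd ⊢
    exact Nat.le_of_dvd Nat.card_pos (P.pow_dvd_card_of_pow_dvd_card hdvd)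
  let φ : (P : Subgroup G) ⧸ C.subgroupOf (P : Subgroup G) → ((P : Subgroup G) ⊓ N : Subgroup G) :=
    Quotient.lift (fun y => ⟨x⁻¹ * ((y : G) * x * (y : G)⁻¹), mem_inf.mpr
      ⟨mul_mem (inv_mem hxP) (mul_mem (mul_mem y.2 hxP) (inv_mem y.2)), by
        rw [← hDmem, hD, mem_comap, mem_centralizer_singleton_iff, QuotientGroup.mk'_apply,
          ← QuotientGroup.mk_mul, ← QuotientGroup.mk_mul]
        refine (QuotientGroup.eq.mpr ?_).symm
        have := hxc y y.2
        rw [show (x * (y : G))⁻¹ * ((y : G) * x) = (x * (y : G))⁻¹ * ((y : G) * x * (y : G)⁻¹ * x⁻¹) *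
          (x * (y : G)) by group]
        have hNn : N.Normal := inferInstance
        have h2 := hNn.conj_mem _ this (x * (y : G))⁻¹
        rwa [inv_inv] at h2⟩⟩) (fun a b hab => Subtype.ext (by
      have hab' : ((a⁻¹ * b : (P : Subgroup G)) : G) ∈ C :=
        mem_subgroupOf.mp (QuotientGroup.leftRel_apply.mp hab)
      rw [hC, mem_inf, mem_centralizer_singleton_iff, coe_mul, coe_inv] at hab'
      show x⁻¹ * ((a : G) * x * (a : G)⁻¹) = x⁻¹ * ((b : G) * x * (b : G)⁻¹)
      congr 1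
      calc (a : G) * x * (a : G)⁻¹ = (a : G) * (x * ((a : G)⁻¹ * b)) * (b : G)⁻¹ := by group
        _ = (a : G) * (((a : G)⁻¹ * b) * x) * (b : G)⁻¹ := by rw [hab'.2]
        _ = _ := by group))
  have hinj : Function.Injective φ := by
    intro a b hab
    induction a using Quotient.inductionOn with | h a => ?_
    induction b using Quotient.inductionOn with | h b => ?_
    have hab' : (a : G) * x * (a : G)⁻¹ = (b : G) * x * (b : G)⁻¹ :=
      mul_left_cancel (congrArg Subtype.val hab)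
    refine Quotient.sound (QuotientGroup.leftRel_apply.mpr (mem_subgroupOf.mpr ?_))
    rw [hC, mem_inf, mem_centralizer_singleton_iff, coe_mul, coe_inv]
    refine ⟨mul_mem (inv_mem a.2) b.2, ?_⟩
    calc (a : G)⁻¹ * b * x = (a : G)⁻¹ * ((b : G) * x * (b : G)⁻¹) * b := by group
      _ = (a : G)⁻¹ * ((a : G) * x * (a : G)⁻¹) * b := by rw [hab']
      _ = _ := by group
  have hbij : Function.Bijective φ := hinj.bijective_of_nat_card_le (by
    refine Nat.le_of_mul_le_mul_left ?_ (Nat.card_pos (α := C))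
    refine hle.trans (le_of_eq ?_)
    rw [← Subgroup.card_mul_index (C.subgroupOf (P : Subgroup G))]
    congr 1
    exact Nat.card_congr (subgroupOfEquivOfLe (hC ▸ inf_le_left)).toEquiv)
  intro n hn
  obtain ⟨y, hy⟩ := hbij.2 ⟨n, hn⟩
  induction y using Quotient.inductionOn with | h y => ?_
  refine ⟨⁅(⟨x, hxP⟩ : (P : Subgroup G))⁻¹, y⁆, commutator_mem_commutator (mem_top _) (mem_top _), ?_⟩
  refine Eq.trans ?_ (congrArg Subtype.val hy)
  show x⁻¹ * (y : G) * x⁻¹⁻¹ * (y : G)⁻¹ = x⁻¹ * ((y : G) * x * (y : G)⁻¹)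
  group

/-- The `q`-residual of `N`, as a subgroup of `G`. -/
def residual (q : ℕ) (N : Subgroup G) : Subgroup G := (Cfsg.pResidual q ↥N).map N.subtype

theorem residual_normal [N.Normal] (q : ℕ) : (residual q N).Normal := by
  haveI := Transfer.pResidual_characteristic (G := ↥N) (p := q)
  unfold residual
  infer_instance

/-- `N` is `p`-nilpotent when `p` divides both its order and its index. -/
theorem npc_of_dvd (h : IsPair N) [N.Normal] {p : ℕ} [hp : Fact p.Prime]
    (hidx : p ∣ N.index) : Cfsg.HasNormalPComplement p ↥N := by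
  obtain ⟨P⟩ : Nonempty (Sylow p G) := inferInstance
  obtain ⟨X, hX⟩ : ∃ X, X = N ⊔ (P : Subgroup G) := ⟨_, rfl⟩
  have hPX : (P : Subgroup G) ≤ X := hX ▸ le_sup_right
  have hNX : N ≤ X := hX ▸ le_sup_left
  let PX : Sylow p X := P.subtype hPX
  have hq : IsPGroup p (X ⧸ N.subgroupOf X) := by
    refine P.2.of_surjective ((QuotientGroup.mk' (N.subgroupOf X)).comp (inclusion hPX)) fun y => ?_
    obtain ⟨⟨g, hg⟩, rfl⟩ := QuotientGroup.mk'_surjective _ y
    obtain ⟨a, ha, b, hb, rfl⟩ : g ∈ (N : Set G) * ((P : Subgroup G) : Set G) := by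
      rw [← normal_mul, ← hX]; exact hg
    refine ⟨⟨b, hb⟩, QuotientGroup.eq.mpr (mem_subgroupOf.mpr ?_)⟩
    show b⁻¹ * (a * b) ∈ N
    have hN : N.Normal := inferInstance
    have h2 := hN.conj_mem a ha b⁻¹
    rw [inv_inv, mul_assoc] at h2
    exact h2
  have hres := Transfer.pResidual_le_of_isPGroup_quotient _ hq
  have hX' : Cfsg.HasNormalPComplement p X := by
    refine Transfer.hasNormalPComplement_of_le_frattini PX fun y hy => ?_
    obtain ⟨hy1, hy2⟩ := mem_inf.mp hy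
    have hyPN : (y : G) ∈ (P : Subgroup G) ⊓ N :=
      mem_inf.mpr ⟨hy2, mem_subgroupOf.mp (hres hy1)⟩
    obtain ⟨z, hz, hzy⟩ := sylow_inf_le_commutator h P hidx hyPN
    let e : (P : Subgroup G) →* PX := MonoidHom.mk'
      (fun w => ⟨⟨w, hPX w.2⟩, w.2⟩) fun _ _ => rfl
    refine ⟨e z, PFrattini.commutator_le_frattini PX.2 ?_, Subtype.ext hzy⟩
    have hmem := mem_map_of_mem e hz
    rw [_root_.commutator_def, Subgroup.map_commutator] at hmem
    exact commutator_mono le_top le_top hmem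
  obtain ⟨Q⟩ : Nonempty (Sylow p N) := inferInstance
  rw [Transfer.hasNormalPComplement_iff_inf_eq_bot Q, eq_bot_iff]
  intro y hy
  obtain ⟨hy1, hy2⟩ := mem_inf.mp hy
  have hy3 : inclusion hNX y ∈ Cfsg.pResidual p X :=
    Transfer.map_pResidual_le (inclusion hNX) (mem_map_of_mem _ hy1)
  obtain ⟨R, hR⟩ := (Q.2.map (inclusion hNX)).exists_le_sylow
  have hy4 : inclusion hNX y ∈ Cfsg.pResidual p X ⊓ (R : Subgroup X) :=
    mem_inf.mpr ⟨hy3, hR (mem_map_of_mem _ hy2)⟩
  rw [(Transfer.hasNormalPComplement_iff_inf_eq_bot R).mp hX', mem_bot] at hy4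
  exact mem_bot.mpr (inclusion_injective hNX (hy4.trans (map_one _).symm))

/-- With a second prime `q` for which `N` is `q`-nilpotent, `p` cannot divide both. -/
theorem false_of_npc (h : IsPair N) [N.Normal] {p q : ℕ} [hp : Fact p.Prime] [hq : Fact q.Prime]
    (hqp : q ≠ p) (hpN : p ∣ Nat.card N) (hidx : p ∣ N.index) (hqN : q ∣ Nat.card N)
    (hnpc : Cfsg.HasNormalPComplement q ↥N) : False := by
  haveI := residual_normal (N := N) q
  obtain ⟨K, hK⟩ : ∃ K, K = residual q N := ⟨_, rfl⟩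
  haveI hKn : K.Normal := hK ▸ residual_normal q
  have hKN : K ≤ N := hK ▸ map_subtype_le _
  obtain ⟨π, hπ⟩ : ∃ π, π = QuotientGroup.mk' K := ⟨_, rfl⟩
  have hπs : Function.Surjective π := hπ ▸ QuotientGroup.mk'_surjective K
  have hπ1 : ∀ {y}, π y = 1 ↔ y ∈ K := fun {y} => by
    rw [hπ]; exact QuotientGroup.eq_one_iff y
  have hpK : ∀ {y : G}, y ∈ N → ∀ {j : ℕ}, y ^ p ^ j = 1 → y ∈ K := by
    intro y hy j hj
    rw [hK]
    refine ⟨⟨y, hy⟩, Transfer.mem_pResidual_of_coprime ?_, rfl⟩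
    rw [Subgroup.orderOf_mk]
    refine Nat.Coprime.coprime_dvd_left (orderOf_dvd_of_pow_eq_one hj) ?_
    exact ((Nat.coprime_primes hp.out hq.out).mpr hqp.symm).pow_left j
  obtain ⟨j, hj⟩ := Transfer.index_pResidual (G := ↥N) (p := q)
  have hcardN : Nat.card (N.map π) ∣ q ^ j := by
    rw [← hj, ← relIndex_ker]
    rw [hπ, QuotientGroup.ker_mk']
    rw [hK, residual, relIndex, subgroupOf, comap_map_eq_self_of_injective N.subtype_injective]
  have hne : N.map π ≠ ⊥ := by
    intro he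
    have hle : N ≤ K := fun y hy => hπ1.mp (mem_bot.mp (he ▸ mem_map_of_mem π hy))
    obtain ⟨Q⟩ : Nonempty (Sylow q N) := inferInstance
    refine Q.ne_bot_of_dvd_card hqN (eq_bot_iff.mpr fun y hy => ?_)
    rw [← (Transfer.hasNormalPComplement_iff_inf_eq_bot Q).mp hnpc]
    obtain ⟨y', hy', hyy⟩ := (hK ▸ hle y.2 : (y : G) ∈ residual q N)
    exact mem_inf.mpr ⟨Subtype.ext hyy ▸ hy', hy⟩
  obtain ⟨P⟩ : Nonempty (Sylow p G) := inferInstance
  obtain ⟨ψ, hψ⟩ : ∃ ψ, ψ = π.subgroupMap (P : Subgroup G) := ⟨_, rfl⟩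
  have hψs : Function.Surjective ψ := hψ ▸ π.subgroupMap_surjective _
  have hψker : ψ.ker ≤ commutator (P : Subgroup G) := by
    intro y hy
    rw [hψ, MonoidHom.mem_ker, Subtype.ext_iff] at hy
    obtain ⟨z, hz, hzy⟩ := sylow_inf_le_commutator h P hidx
      (mem_inf.mpr ⟨y.2, hKN (hπ1.mp hy)⟩)
    exact Subtype.ext hzy ▸ hz
  have hψne : ψ.ker ≠ ⊥ := by
    intro he
    obtain ⟨⟨y, hy⟩, hy1⟩ := exists_prime_orderOf_dvd_card' (G := N) p hpN
    rw [Subgroup.orderOf_mk] at hy1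
    obtain ⟨k, hk⟩ : ∃ k, y ^ p ^ k = 1 := ⟨1, by rw [pow_one, ← hy1, pow_orderOf_eq_one]⟩
    have hyp : IsPGroup p (zpowers y) := by
      rw [IsPGroup.iff_card]
      exact ⟨1, by rw [Nat.card_zpowers, hy1, pow_one]⟩
    obtain ⟨R, hR⟩ := hyp.exists_le_sylow
    obtain ⟨c, hc⟩ := MulAction.exists_smul_eq G R P
    have hyP : c * y * c⁻¹ ∈ (P : Subgroup G) := by
      rw [← hc, Sylow.coe_subgroup_smul]
      exact ⟨y, hR (mem_zpowers y), rfl⟩
    have hNn : N.Normal := inferInstance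
    have hmem : (⟨c * y * c⁻¹, hyP⟩ : (P : Subgroup G)) ∈ ψ.ker := by
      rw [hψ, MonoidHom.mem_ker, Subtype.ext_iff]
      exact hπ1.mpr (hpK (hNn.conj_mem y hy c) (j := k) (by rw [conj_pow, hk]; group))
    rw [he, mem_bot, Subtype.ext_iff] at hmem
    have hy0 : y = 1 := by
      have h3 : c * y * c⁻¹ = 1 := hmem
      rwa [conj_eq_one_iff] at h3
    rw [hy0, orderOf_one] at hy1
    exact hp.out.one_lt.ne hy1
  have hPp : IsPGroup p ((P : Subgroup G).map π) := P.2.map π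
  have hfree : ∀ u ∈ (P : Subgroup G).map π, u ≠ 1 → ∀ m ∈ N.map π, u * m = m * u → m = 1 := by
    rintro _ ⟨x, hx, rfl⟩ hu _ ⟨n, hn, rfl⟩ hc
    obtain ⟨k, hk⟩ : ∃ k, x ^ p ^ k = 1 := by
      obtain ⟨k, hk⟩ := P.2 ⟨x, hx⟩
      exact ⟨k, congrArg Subtype.val hk⟩
    have hxN : x ∉ N := fun hxN => hu (hπ1.mpr (hpK hxN hk))
    have hpair : IsPair (N.map π) := by
      intro g' hg' m hm
      obtain ⟨g, rfl⟩ := hπs g'
      obtain ⟨m', hm', rfl⟩ := hm
      obtain ⟨c, hc⟩ := h g (fun hg => hg' (mem_map_of_mem π hg)) m' hm'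
      exact ⟨π c, by rw [← map_inv, ← map_mul, ← map_mul, hc, map_mul]⟩
    have hxN' : π x ∉ N.map π := by
      rintro ⟨y, hy, hyx⟩
      refine hxN ?_
      have h1 : y⁻¹ * x ∈ K := hπ1.mp (by rw [map_mul, map_inv, hyx, inv_mul_cancel])
      simpa using N.mul_mem hy (hKN h1)
    obtain ⟨i, hi⟩ := isPElement_of_commute hpair hxN' (k := k) (by rw [← map_pow, hk, map_one])
      (mem_map_of_mem π hn) hc
    have h1 := orderOf_dvd_of_pow_eq_one hi
    have h2 : orderOf (π n) ∣ q ^ j := by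
      refine Dvd.dvd.trans ?_ hcardN
      exact (N.map π).orderOf_dvd_natCard (mem_map_of_mem π hn)
    have hco : (p ^ i).Coprime (q ^ j) := ((Nat.coprime_primes hp.out hq.out).mpr hqp.symm).pow i j
    exact orderOf_eq_one_iff.mp (Nat.eq_one_of_dvd_coprimes hco h1 h2)
  have hcyc : IsCyclic ((P : Subgroup G).map π) ∨
      (p = 2 ∧ ∃ n : ℕ, Nonempty ((P : Subgroup G).map π ≃* QuaternionGroup (2 ^ n))) := by
    refine PUnique.isCyclic_or_quaternion hPp ?_
    by_contra hbad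
    simp only [not_forall] at hbad
    obtain ⟨A, B, hA, hB, hAB⟩ := hbad
    haveI : Nontrivial ((P : Subgroup G).map π) := by
      refine Finite.one_lt_card_iff_nontrivial.mp ?_
      exact lt_of_lt_of_le (hA.symm ▸ hp.out.one_lt)
        (Nat.le_of_dvd Nat.card_pos A.card_subgroup_dvd_card)
    haveI := hPp.center_nontrivial
    obtain ⟨⟨b, hbc⟩, hb⟩ := exists_prime_orderOf_dvd_card' (G := center ((P : Subgroup G).map π)) p (by
      obtain ⟨k, hk0, hk⟩ := (hPp.to_subgroup (center ((P : Subgroup G).map π))).nontrivial_iff_card.mp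
        inferInstance
      exact hk ▸ dvd_pow_self p hk0.ne')
    rw [Subgroup.orderOf_mk] at hb
    obtain ⟨a, haq, hab⟩ : ∃ a, orderOf a = p ∧ a ∉ zpowers b := by
      have hZ : Nat.card (zpowers b) = p := by rw [Nat.card_zpowers, hb]
      by_contra hc
      push Not at hc
      have key : ∀ C : Subgroup ((P : Subgroup G).map π), Nat.card C = p → C = zpowers b := by
        intro C hC
        obtain ⟨⟨c, hcC⟩, hco⟩ := exists_prime_orderOf_dvd_card' (G := C) p hC.symm.dvd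
        rw [Subgroup.orderOf_mk] at hco
        have h1 : zpowers c = C :=
          Subgroup.eq_of_le_of_card_ge (zpowers_le.mpr hcC) (by rw [Nat.card_zpowers, hco, hC])
        rw [← h1]
        exact Subgroup.eq_of_le_of_card_ge (zpowers_le.mpr (hc c hco))
          (by rw [hZ, Nat.card_zpowers, hco])
      exact hAB ((key A hA).trans (key B hB).symm)
    refine hne (eq_bot_iff.mpr ?_)
    haveI : (N.map π).Normal := Subgroup.Normal.map inferInstance π hπs
    refine Coprime.le_of_pair hp.out (a := (a : G ⧸ K)) (b := (b : G ⧸ K)) ?_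
      (by rw [normalizer_eq_top]; exact le_top)
      (congrArg Subtype.val (mem_center_iff.mp hbc a))
      (by rw [← coe_pow, orderOf_dvd_iff_pow_eq_one.mp haq.dvd, coe_one])
      (by rw [← coe_pow, orderOf_dvd_iff_pow_eq_one.mp hb.dvd, coe_one])
      (fun he => hp.out.ne_one (by rw [← hb, orderOf_eq_one_iff.mpr (Subtype.ext he)]))
      (fun he => by
        obtain ⟨i, hi⟩ := mem_zpowers_iff.mp he
        exact hab (mem_zpowers_iff.mpr ⟨i, Subtype.ext (by rw [coe_zpow]; exact hi)⟩))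
      fun x hx hx1 m hm => ?_
    · exact (((Nat.coprime_primes hp.out hq.out).mpr hqp.symm).pow_right j).coprime_dvd_right hcardN
    · obtain ⟨hm1, hm2⟩ := mem_inf.mp hm
      have hxP : x ∈ (P : Subgroup G).map π := (closure_le _).mpr (by
        rintro y (rfl | rfl)
        · exact a.2
        · exact b.2) hx
      exact mem_bot.mpr (hfree x hxP hx1 m hm1 (mem_centralizer_singleton_iff.mp hm2).symm)
  rcases hcyc with hc | ⟨hp2, n, ⟨e⟩⟩
  · exact not_stem_cyclic P.2 ψ hψs hψker hψne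
  · subst hp2
    refine not_stem_quaternion P.2 (e.toMonoidHom.comp ψ) (e.surjective.comp hψs) ?_ ?_
    · rwa [show (e.toMonoidHom.comp ψ).ker = ψ.ker from Subgroup.ext fun z => by
        simp [MonoidHom.mem_ker]]
    · rwa [show (e.toMonoidHom.comp ψ).ker = ψ.ker from Subgroup.ext fun z => by
        simp [MonoidHom.mem_ker]]

/-- An element of prime order prime to `|N|` outside `N` makes `N` nilpotent. -/
theorem isNilpotent_of_coprime (h : IsPair N) [N.Normal] {r : ℕ} [hr : Fact r.Prime]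
    (hridx : r ∣ N.index) (hrN : ¬ r ∣ Nat.card N) : Group.IsNilpotent N := by
  obtain ⟨y, hy⟩ := exists_prime_orderOf_dvd_card' (G := G) r (hridx.trans N.index_dvd_card)
  have hyN : y ∉ N := fun hy' => hrN (hy ▸ N.orderOf_dvd_natCard hy')
  refine Coprime.isNilpotent_of_fixedPointFree' (MulAut.conjNormal y : MulAut N) (fun n hn => ?_)
    hr.out ?_
  · have h1 : y * (n : G) * y⁻¹ = n := congrArg Subtype.val hn
    obtain ⟨j, hj⟩ := isPElement_of_commute h hyN (k := 1)
      (p := r) (by rw [pow_one, ← hy, pow_orderOf_eq_one]) n.2 (mul_inv_eq_iff_eq_mul.mp h1)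
    have h2 : (r ^ j).Coprime (Nat.card N) := (hr.out.coprime_iff_not_dvd.mpr hrN).pow_left j
    exact Subtype.ext (orderOf_eq_one_iff.mp
      (Nat.eq_one_of_dvd_coprimes h2 (orderOf_dvd_of_pow_eq_one hj) (N.orderOf_dvd_natCard n.2)))
  · show (MulAut.conjNormal y : MulAut N) ^ r = 1
    rw [← map_pow, ← hy, pow_orderOf_eq_one, map_one]

/-- The trichotomy. -/
theorem trichotomy (h : IsPair N) [N.Normal] (hN1 : N ≠ ⊥) (hN2 : N ≠ ⊤) :
    (∀ x ∈ N, x ≠ 1 → centralizer ({x} : Set G) ≤ N) ∨ IsPrimePow (Nat.card N) ∨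
      IsPrimePow N.index := by
  have hpp : ∀ (m : ℕ), 0 < m → m ≠ 1 → ∀ p : ℕ, p.Prime → ¬ IsPrimePow m →
      ∃ q : ℕ, q.Prime ∧ q ≠ p ∧ q ∣ m := by
    intro m hm hm1 p hp hnp
    by_contra hc
    push Not at hc
    refine hnp ((isPrimePow_nat_iff _).mpr ⟨p, m.primeFactorsList.length, hp, ?_, ?_⟩)
    · obtain ⟨r, hr, hrd⟩ := Nat.exists_prime_and_dvd hm1
      exact List.length_pos_iff.mpr (List.ne_nil_of_mem
        ((Nat.mem_primeFactorsList hm.ne').mpr ⟨hr, hrd⟩))
    · exact (Nat.eq_prime_pow_of_unique_prime_dvd hm.ne' fun {d} hd hdd => by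
        by_contra hne; exact hc d hd hne hdd).symm
  by_cases hboth : ∃ p : ℕ, p.Prime ∧ p ∣ Nat.card N ∧ p ∣ N.index
  swap
  · refine Or.inl fun x hx hx1 c hc => ?_
    by_contra hcN
    obtain ⟨p, hp, y, hy, k, hyk, hyc⟩ : ∃ p : ℕ, p.Prime ∧ ∃ y : G, y ∉ N ∧ ∃ k : ℕ,
        y ^ p ^ k = 1 ∧ Commute y x := by
      suffices key : ∀ (n : ℕ) (c : G), orderOf c = n → c ∉ N → Commute c x →
          ∃ p : ℕ, p.Prime ∧ ∃ y : G, y ∉ N ∧ ∃ k : ℕ, y ^ p ^ k = 1 ∧ Commute y x from
        key _ c rfl hcN (mem_centralizer_singleton_iff.mp hc)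
      intro n
      induction n using Nat.strong_induction_on with
      | _ n ih =>
        intro c hn hcN hcx
        have h1 : orderOf c ≠ 1 := fun h1 => hcN (orderOf_eq_one_iff.mp h1 ▸ one_mem N)
        obtain ⟨r, hr, hrd⟩ := Nat.exists_prime_and_dvd h1
        obtain ⟨a, m, hm, ham⟩ := Nat.exists_eq_pow_mul_and_not_dvd (orderOf_pos c).ne' r hr.ne_one
        by_cases hcm : c ^ m ∈ N
        · have hcr : c ^ r ^ a ∉ N := by
            intro h3
            refine hcN ?_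
            have hco : Nat.Coprime m (r ^ a) := ((hr.coprime_iff_not_dvd.mpr hm).symm).pow_right a
            have h2 := Nat.gcd_eq_gcd_ab m (r ^ a)
            rw [hco.gcd_eq_one] at h2
            rw [← zpow_one c, show (1 : ℤ) = _ from h2, zpow_add, zpow_mul, zpow_mul, zpow_natCast,
              zpow_natCast]
            exact mul_mem (N.zpow_mem hcm _) (N.zpow_mem h3 _)
          refine ih (orderOf (c ^ r ^ a)) ?_ _ rfl hcr (hcx.pow_left _)
          rw [← hn, orderOf_pow, ham, Nat.gcd_eq_right (dvd_mul_right _ _),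
            Nat.mul_div_cancel_left _ (pow_pos hr.pos a)]
          refine lt_mul_of_one_lt_left (Nat.pos_of_ne_zero fun h3 => hm (h3 ▸ dvd_zero r)) ?_
          refine Nat.one_lt_pow ?_ hr.one_lt
          rintro rfl
          rw [pow_zero, one_mul] at ham
          exact hm (ham ▸ hrd)
        · exact ⟨r, hr, c ^ m, hcm, a,
            by rw [← pow_mul, mul_comm, ← ham, pow_orderOf_eq_one], hcx.pow_left m⟩
    haveI := Fact.mk hp
    obtain ⟨j, hj⟩ := isPElement_of_commute h hy hyk hx hyc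
    have hpN : p ∣ Nat.card N := by
      obtain ⟨i, -, hi⟩ := (Nat.dvd_prime_pow hp).mp (orderOf_dvd_of_pow_eq_one hj)
      have hi0 : i ≠ 0 := fun h0 => hx1 (orderOf_eq_one_iff.mp (by rw [hi, h0, pow_zero]))
      exact ((dvd_pow_self p hi0).trans (hi ▸ dvd_rfl)).trans (N.orderOf_dvd_natCard hx)
    refine hboth ⟨p, hp, hpN, ?_⟩
    have h1 : orderOf ((QuotientGroup.mk' N) y) ∣ p ^ k :=
      orderOf_dvd_of_pow_eq_one (by rw [← map_pow, hyk, map_one])
    obtain ⟨i, -, hi⟩ := (Nat.dvd_prime_pow hp).mp h1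
    have hi0 : i ≠ 0 := fun h0 => hy (by
      rw [h0, pow_zero, orderOf_eq_one_iff, QuotientGroup.mk'_apply, QuotientGroup.eq_one_iff] at hi
      exact hi)
    exact (dvd_pow_self p hi0).trans (hi ▸ orderOf_dvd_natCard _)
  obtain ⟨p, hp, hpN, hpidx⟩ := hboth
  haveI := Fact.mk hp
  refine Or.inr ?_
  by_contra hnot
  rw [not_or] at hnot
  obtain ⟨r, hr, hrp, hridx⟩ := hpp N.index (Nat.pos_of_ne_zero index_ne_zero_of_finite)
    (fun he => hN2 (index_eq_one.mp he)) p hp hnot.2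
  haveI := Fact.mk hr
  by_cases hrN : r ∣ Nat.card N
  · exact false_of_npc h hrp hpN hpidx hrN (npc_of_dvd h hridx)
  · obtain ⟨q, hq, hqp, hqN⟩ := hpp (Nat.card N) Nat.card_pos
      (fun he => hN1 (card_eq_one.mp he)) p hp hnot.1
    haveI := Fact.mk hq
    haveI := isNilpotent_of_coprime h hridx hrN
    exact false_of_npc h hqp hpN hpidx hqN Transfer.hasNormalPComplement_of_isNilpotent

end Cfsg.Agent.Lib.CaminaPair
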