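import Mathlib
import Cfsg.Agent.Lib.CaminaPair.Basic
import Cfsg.Agent.Lib.CaminaPair.Linear.Main
import Cfsg.Agent.Lib.Coprime.Sylow
import Cfsg.Agent.S0205

/-!
A normal subgroup whose outside classes are unions of its cosets is solvable.
-/

set_option autoImplicit false

namespace Cfsg.Agent.Lib.CaminaPair

open Subgroup
open scoped IsMulCommutative

universe u

variable {G : Type u} [Group G] [Finite G] {N : Subgroup G}

/-- No fixed-point-free action on an elementary abelian group of order prime to `p`. -/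
theorem false_of_action {P : Type u} [Group P] [Finite P] {p q : ℕ} [hp : Fact p.Prime]
    [hq : Fact q.Prime] (hp2 : p ≠ 2) (hqp : q ≠ p) (hP : IsPGroup p P) (L : Subgroup P) [L.Normal]
    (hL1 : L ≠ ⊥) (hL2 : L ≠ ⊤) (hcls : ∀ x, x ∉ L → ∀ n ∈ L, ∃ g : P, g * x * g⁻¹ = x * n)
    {A : Type u} [AddCommGroup A] [Finite A] [Nontrivial A] [Module (ZMod q) A]
    (f : P →* AddMonoid.End A) (hfix : ∀ x, x ∉ L → ∀ v, f x v = v → v = 0) : False := by
  let e : P → (A →ₗ[ZMod q] A) := fun d => AddMonoidHom.toZModLinearMap q (f d)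
  have he : ∀ d v, e d v = f d v := fun d v => rfl
  let φ : P →* Module.End (ZMod q) A :=
    { toFun := e
      map_one' := LinearMap.ext fun v => by rw [he, map_one]; rfl
      map_mul' := fun d d' => LinearMap.ext fun v => by
        rw [Module.End.mul_apply, he, he, he, map_mul]; rfl }
  haveI : Module.Finite (ZMod q) A := Module.Finite.of_finite
  let bas := Module.finBasis (ZMod q) A
  let K := AlgebraicClosure (ZMod q)
  let Φ : Module.End (ZMod q) A →+* Module.End K (Fin (Module.finrank (ZMod q) A) → K) :=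
    ((Matrix.toLinAlgEquiv' (R := K)).toAlgHom.toRingHom.comp (algebraMap (ZMod q) K).mapMatrix).comp
      (LinearMap.toMatrixAlgEquiv bas).toAlgHom.toRingHom
  haveI : Nonempty (Fin (Module.finrank (ZMod q) A)) := ⟨⟨0, Module.finrank_pos⟩⟩
  refine Linear.false_of_fixedPointFree (K := K) hp2 (fun h0 => hqp
    ((Nat.prime_dvd_prime_iff_eq hq.out hp.out).mp ((CharP.cast_eq_zero_iff K q p).mp h0)))
    hP L hL1 hL2 hcls (Φ.toMonoidHom.comp φ) fun x hx w hw => ?_
  have hunit : IsUnit (φ x - 1) := by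
    rw [LinearMap.isUnit_iff_ker_eq_bot, LinearMap.ker_eq_bot']
    intro v hv
    rw [LinearMap.sub_apply, Module.End.one_apply, sub_eq_zero] at hv
    exact hfix x hx v ((he x v).symm.trans hv)
  have h2 := hunit.map Φ
  rw [map_sub, map_one, LinearMap.isUnit_iff_ker_eq_bot] at h2
  refine LinearMap.ker_eq_bot'.mp h2 w ?_
  rw [LinearMap.sub_apply, Module.End.one_apply, sub_eq_zero]
  exact hw

/-- For odd `p` a normal `p`-complement of `G` inside `N` is trivial. -/
theorem eq_bot_of_complement (h : IsPair N) [N.Normal] {p : ℕ} [hp : Fact p.Prime] (hp2 : p ≠ 2)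
    (hidx : p ∣ N.index) (hpN : p ∣ Nat.card N) (M : Subgroup G) [hMn : M.Normal] (hMN : M ≤ N)
    (hM : ¬ p ∣ Nat.card M) {a : ℕ} (hMidx : M.index = p ^ a) : M = ⊥ := by
  by_contra hne
  obtain ⟨q, hq, hqM⟩ := Nat.exists_prime_and_dvd (fun h1 : Nat.card M = 1 => hne (card_eq_one.mp h1))
  haveI := Fact.mk hq
  have hqp : q ≠ p := fun he => hM (he ▸ hqM)
  obtain ⟨P⟩ : Nonempty (Sylow p G) := inferInstance
  obtain ⟨b, hb⟩ := IsPGroup.iff_card.mp P.2
  have hcop : (Nat.card (P : Subgroup G)).Coprime (Nat.card M) := by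
    rw [hb]; exact (hp.out.coprime_iff_not_dvd.mpr hM).pow_left b
  have hPM : (P : Subgroup G) ≤ normalizer (M : Set G) := by rw [normalizer_eq_top]; exact le_top
  haveI : Group.IsNilpotent (P : Subgroup G) := P.2.isNilpotent
  obtain ⟨Q, hQ⟩ := Coprime.exists_invariant_sylow (p := q) hPM hcop (Or.inl inferInstance)
  obtain ⟨R, hR⟩ : ∃ R, R = (Q : Subgroup M).map M.subtype := ⟨_, rfl⟩
  rw [← hR] at hQ
  have hRM : R ≤ M := hR ▸ map_subtype_le _
  have hRq : IsPGroup q R := hR ▸ Q.2.map _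
  haveI : Nontrivial R := by
    rw [Subgroup.nontrivial_iff_ne_bot, hR]
    intro h0
    exact Q.ne_bot_of_dvd_card hqM ((Subgroup.map_eq_bot_iff_of_injective _ M.subtype_injective).mp h0)
  let Z : Subgroup G :=
    { carrier := {x | x ∈ R ∧ (∀ y ∈ R, x * y = y * x) ∧ x ^ q = 1}
      one_mem' := ⟨one_mem R, fun y _ => by rw [one_mul, mul_one], one_pow q⟩
      mul_mem' := fun {x y} hx hy => ⟨mul_mem hx.1 hy.1,
        fun w hw => (Commute.mul_left (hx.2.1 w hw) (hy.2.1 w hw) : Commute (x * y) w),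
        by rw [Commute.mul_pow (hx.2.1 y hy.1) q, hx.2.2, hy.2.2, one_mul]⟩
      inv_mem' := fun {x} hx => ⟨inv_mem hx.1, fun w hw => (Commute.inv_left (hx.2.1 w hw) : Commute x⁻¹ w),
        by rw [inv_pow, hx.2.2, inv_one]⟩ }
  haveI : Nontrivial Z := by
    haveI := hRq.center_nontrivial
    obtain ⟨k, hk0, hk⟩ := (hRq.to_subgroup (center R)).nontrivial_iff_card.mp inferInstance
    obtain ⟨⟨z, hzc⟩, hz⟩ := exists_prime_orderOf_dvd_card' (G := center R) q (hk ▸ dvd_pow_self q hk0.ne')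
    rw [Subgroup.orderOf_mk] at hz
    refine nontrivial_of_ne (⟨(z : G), z.2, fun y hy =>
      (congrArg Subtype.val (mem_center_iff.mp hzc ⟨y, hy⟩)).symm, ?_⟩ : Z) 1 fun he => hq.ne_one ?_
    · rw [← coe_pow, ← hz, pow_orderOf_eq_one, coe_one]
    · rw [← hz, orderOf_eq_one_iff]
      exact Subtype.ext (congrArg (fun t : Z => (t : G)) he)
  have hinv : ∀ d ∈ (P : Subgroup G), ∀ z ∈ Z, d * z * d⁻¹ ∈ Z := by
    intro d hd z hz
    have hdR : ∀ y, y ∈ R ↔ d * y * d⁻¹ ∈ R := mem_normalizer_iff.mp (hQ hd)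
    refine ⟨(hdR z).mp hz.1, fun y hy => ?_, by rw [conj_pow, hz.2.2, mul_one, mul_inv_cancel]⟩
    have hy' : d⁻¹ * y * d ∈ R := (hdR _).mpr (by
      rwa [show d * (d⁻¹ * y * d) * d⁻¹ = y by group])
    calc d * z * d⁻¹ * y = d * (z * (d⁻¹ * y * d)) * d⁻¹ := by group
      _ = d * (d⁻¹ * y * d * z) * d⁻¹ := by rw [hz.2.1 _ hy']
      _ = y * (d * z * d⁻¹) := by group
  haveI : IsMulCommutative Z := ⟨⟨fun x y => Subtype.ext (x.2.2.1 y y.2.1)⟩⟩
  let c : ↥(P : Subgroup G) → (Z →* Z) := fun d =>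
    MonoidHom.mk' (fun z => ⟨(d : G) * z * (d : G)⁻¹, hinv d d.2 z z.2⟩)
      fun x y => Subtype.ext (by simp)
  let f : (P : Subgroup G) →* AddMonoid.End (Additive Z) :=
    { toFun := fun d => (c d).toAdditive
      map_one' := AddMonoidHom.ext fun z => Additive.toMul.injective (Subtype.ext (by
        show ((1 : (P : Subgroup G)) : G) * (z.toMul : G) * ((1 : (P : Subgroup G)) : G)⁻¹ = (z.toMul : G)
        rw [coe_one, one_mul, inv_one, mul_one]))
      map_mul' := fun d d' => AddMonoidHom.ext fun z => Additive.toMul.injective (Subtype.ext (by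
        show ((d * d' : (P : Subgroup G)) : G) * (z.toMul : G) * ((d * d' : (P : Subgroup G)) : G)⁻¹ =
          (d : G) * ((d' : G) * (z.toMul : G) * (d' : G)⁻¹) * (d : G)⁻¹
        rw [coe_mul, mul_inv_rev]; group)) }
  have hq0 : ∀ v : Additive Z, q • v = 0 := fun x => by
    refine Additive.toMul.injective ?_
    rw [toMul_nsmul, toMul_zero]
    exact Subtype.ext x.toMul.2.2.2
  obtain ⟨L, hL⟩ : ∃ L, L = N.subgroupOf (P : Subgroup G) := ⟨_, rfl⟩
  haveI : L.Normal := hL ▸ inferInstance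
  have hbot : (P : Subgroup G) ⊓ M = ⊥ := (disjoint_of_coprime_natCard hcop).eq_bot
  have htop : M ⊔ (P : Subgroup G) = ⊤ := by
    rw [← index_eq_one]
    exact Nat.eq_one_of_dvd_coprimes ((hp.out.coprime_iff_not_dvd.mpr P.not_dvd_index).pow_left a)
      (hMidx ▸ index_dvd_of_le le_sup_left) (index_dvd_of_le le_sup_right)
  refine @false_of_action _ _ _ p q _ _ hp2 hqp P.2 L _ ?_ ?_ ?_ (Additive Z) _ _ _
    (AddCommGroup.zmodModule hq0) f ?_
  · intro hLbot
    obtain ⟨⟨y, hy⟩, hy1⟩ := exists_prime_orderOf_dvd_card' (G := N) p hpN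
    rw [Subgroup.orderOf_mk] at hy1
    have hyp : IsPGroup p (zpowers y) := by
      rw [IsPGroup.iff_card]
      exact ⟨1, by rw [Nat.card_zpowers, hy1, pow_one]⟩
    obtain ⟨S, hS⟩ := hyp.exists_le_sylow
    obtain ⟨g, hg⟩ := MulAction.exists_smul_eq G S P
    have hyP : g * y * g⁻¹ ∈ (P : Subgroup G) := by
      rw [← hg, Sylow.coe_subgroup_smul]
      exact ⟨y, hS (mem_zpowers y), rfl⟩
    have hNn : N.Normal := inferInstance
    have hmem : (⟨g * y * g⁻¹, hyP⟩ : (P : Subgroup G)) ∈ L :=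
      hL ▸ mem_subgroupOf.mpr (hNn.conj_mem y hy g)
    rw [hLbot, mem_bot, Subtype.ext_iff] at hmem
    have hy0 : g * y * g⁻¹ = 1 := hmem
    rw [conj_eq_one_iff] at hy0
    rw [hy0, orderOf_one] at hy1
    exact hp.out.one_lt.ne hy1
  · intro hLtop
    exact P.not_dvd_index (hidx.trans (index_dvd_of_le (subgroupOf_eq_top.mp (hL.symm.trans hLtop))))
  · intro x hx n hn
    subst hL
    obtain ⟨g, hg⟩ := h x (fun hxN => hx (mem_subgroupOf.mpr hxN)) n (mem_subgroupOf.mp hn)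
    obtain ⟨m, hm, d, hd, rfl⟩ : ∃ m ∈ M, ∃ d ∈ (P : Subgroup G), m * d = g := by
      exact mem_sup_of_normal_left.mp (htop ▸ mem_top g)
    refine ⟨⟨d, hd⟩, ?_⟩
    obtain ⟨w, hw⟩ : ∃ w, w = d * (x : G) * d⁻¹ := ⟨_, rfl⟩
    have hwP : w ∈ (P : Subgroup G) := hw ▸ mul_mem (mul_mem hd x.2) (inv_mem hd)
    have h1 : w⁻¹ * ((x : G) * n) ∈ (P : Subgroup G) ⊓ M := by
      refine mem_inf.mpr ⟨mul_mem (inv_mem hwP) (mul_mem x.2 n.2), ?_⟩
      rw [← hg, show w⁻¹ * (m * d * (x : G) * (m * d)⁻¹) = (w⁻¹ * m * w⁻¹⁻¹) * m⁻¹ by rw [hw]; group]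
      exact M.mul_mem (hMn.conj_mem m hm w⁻¹) (M.inv_mem hm)
    rw [hbot, mem_bot, inv_mul_eq_one] at h1
    exact Subtype.ext (show d * (x : G) * d⁻¹ = (x : G) * (n : G) from hw.symm.trans h1)
  · intro x hx z hz
    subst hL
    have h1 : (x : G) * (z.toMul : G) * (x : G)⁻¹ = z.toMul := by
      exact congrArg (fun t : Additive Z => (t.toMul : G)) hz
    obtain ⟨k, hk⟩ := P.2 x
    obtain ⟨j, hj⟩ := isPElement_of_commute h (fun hxN => hx (mem_subgroupOf.mpr hxN)) (k := k)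
      (by rw [← coe_pow, hk, coe_one]) (hMN (hRM z.toMul.2.1)) (mul_inv_eq_iff_eq_mul.mp h1)
    refine Additive.toMul.injective (Subtype.ext (orderOf_eq_one_iff.mp ?_))
    exact Nat.eq_one_of_dvd_coprimes (((Nat.coprime_primes hp.out hq).mpr hqp.symm).pow j 1)
      (orderOf_dvd_of_pow_eq_one hj) ((pow_one q).symm ▸ orderOf_dvd_of_pow_eq_one z.toMul.2.2.2)

/-- The distinguished subgroup is solvable. -/
theorem isSolvable (h : IsPair N) [N.Normal] (hN2 : N ≠ ⊤) : Group.IsSolvable N := by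
  obtain ⟨p, hp, hidx⟩ := Nat.exists_prime_and_dvd (fun h1 : N.index = 1 => hN2 (index_eq_one.mp h1))
  haveI := Fact.mk hp
  by_cases hA : ∃ r : ℕ, r.Prime ∧ r ∣ N.index ∧ ¬ r ∣ Nat.card N
  · obtain ⟨r, hr, hridx, hrN⟩ := hA
    haveI := Fact.mk hr
    haveI := isNilpotent_of_coprime h hridx hrN
    infer_instance
  push Not at hA
  have hpN := hA p hp hidx
  by_cases hB : ∀ q : ℕ, q.Prime → q ∣ Nat.card N → q = p
  · haveI : Group.IsNilpotent N := (IsPGroup.iff_card.mpr ⟨_,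
      Nat.eq_prime_pow_of_unique_prime_dvd Nat.card_pos.ne' fun {d} hd hdd => hB d hd hdd⟩ :
        IsPGroup p N).isNilpotent
    infer_instance
  push Not at hB
  obtain ⟨q, hq, hqN, hqp⟩ := hB
  have hone : ∀ {d : ℕ}, d.Prime → d ∣ N.index → d = p := by
    intro d hd hdd
    by_contra hdp
    haveI := Fact.mk hd
    exact false_of_npc h hdp hpN hidx (hA d hd hdd) (npc_of_dvd h hdd)
  obtain ⟨n, hn⟩ : ∃ n, N.index = p ^ n :=
    ⟨_, Nat.eq_prime_pow_of_unique_prime_dvd index_ne_zero_of_finite hone⟩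
  obtain ⟨a, ha⟩ := Transfer.index_pResidual (G := ↥N) (p := p)
  have hnpc := Transfer.hasNormalPComplement_iff.mp (npc_of_dvd h hidx (p := p))
  haveI hres : (Cfsg.pResidual p ↥N).Normal := Transfer.pResidual_normal
  by_cases hp2 : p = 2
  · subst hp2
    haveI : Group.IsSolvable (Cfsg.pResidual 2 ↥N) :=
      Cfsg.Agent.S0205.result (Nat.odd_iff.mpr (Nat.two_dvd_ne_zero.mp hnpc))
    haveI : Group.IsNilpotent (↥N ⧸ Cfsg.pResidual 2 ↥N) :=
      (Transfer.isPGroup_quotient_pResidual (G := ↥N) (p := 2)).isNilpotent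
    exact (Group.isSolvable_iff_subgroup_quotient (Cfsg.pResidual 2 ↥N)).mpr
      ⟨inferInstance, inferInstance⟩
  exfalso
  haveI := residual_normal (N := N) p
  have hcard : Nat.card (residual p N) = Nat.card (Cfsg.pResidual p ↥N) :=
    card_map_of_injective N.subtype_injective
  have hM : residual p N = ⊥ :=
    eq_bot_of_complement h hp2 hidx hpN (residual p N) (map_subtype_le _) (hcard ▸ hnpc) (a := a + n)
      (by rw [residual, index_map_subtype, ha, hn, pow_add])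
  have h1 : Nat.card (Cfsg.pResidual p ↥N) = 1 := by rw [← hcard, hM, Subgroup.card_bot]
  refine hqp ((Nat.prime_dvd_prime_iff_eq hq hp).mp (hq.dvd_of_dvd_pow (n := a) ?_))
  rw [← ha, ← one_mul (Cfsg.pResidual p ↥N).index, ← h1, Subgroup.card_mul_index]
  exact hqN

end Cfsg.Agent.Lib.CaminaPair
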